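import Mathlib
import Groth.Prelude.Def_ActBC
import Groth.Agent.H28Neron.Torsor
import Groth.Agent.H28Neron.Ext

/-!
# Extending a generic equivariant morphism of torsors
-/

set_option autoImplicit false
set_option linter.style.haveILetI false
set_option backward.isDefEq.respectTransparency false

universe u

open CategoryTheory MonoidalCategory CartesianMonoidalCategory MonObj AlgebraicGeometry
open Groth.Agent.H28Neron Groth.Agent.H28Neron.Torsor

namespace Groth.Agent.H18DedTors

variable {S S₀ : Scheme.{u}} (j : S₀ ⟶ S) [QuasiCompact j] [IsSchemeTheoreticallyDominant j]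

theorem Jmap_comp {X Y Z : Over S} (f : X ⟶ Y) (g : Y ⟶ Z) : Jmap j (f ≫ g) = Jmap j f ≫ Jmap j g := by
  refine Over.OverMorphism.ext (Limits.pullback.hom_ext ?_ ?_)
  · show pbMap (f ≫ g) ≫ _ = (pbMap f ≫ pbMap g) ≫ _
    simp [pbMap]
  · show pbMap (f ≫ g) ≫ _ = (pbMap f ≫ pbMap g) ≫ _
    simp [pbMap]

/-- Morphisms from a flat scheme to a separated one agree if they agree over a dense part of the base. -/
theorem jm_ext {Z N : Over S} [Flat Z.hom] [IsSeparated N.hom] (g g' : Z ⟶ N) (e : jm j Z ≫ g = jm j Z ≫ g') :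
    g = g' :=
  Over.OverMorphism.ext (H28Neron.ext_of_schDominant g.left g'.left N.hom (by rw [Over.w g, Over.w g'])
    (Limits.pullback.fst Z.hom j) (congrArg (fun m => m.left) e))

/-- The morphism over `S₀` of an equivariant isomorphism of the base changes. -/
noncomputable def genMap {P Q : Over S} (e : (Over.pullback j).obj P ⟶ (Over.pullback j).obj Q) : J j P ⟶ J j Q :=
  Over.homMk e.left (by
    show e.left ≫ Limits.pullback.fst Q.hom j ≫ Q.hom = Limits.pullback.fst P.hom j ≫ P.hom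
    rw [Limits.pullback.condition, Limits.pullback.condition, ← Category.assoc]
    exact congrArg (· ≫ j) (Over.w e))

theorem genMap_equivariant {G P Q : Over S} [GrpObj G] (a : AlgGrp.Action G P) (b : AlgGrp.Action G Q)
    (e : NonAbH1.EquivIso (a.bc j) (b.bc j)) (Z : Over S) (g : Z ⟶ G) (x : Z ⟶ P) :
    Jmap j (lift g x ≫ a.act) ≫ genMap j e.iso.hom ≫ jm j Q =
      lift (jm j Z ≫ g) (Jmap j x ≫ genMap j e.iso.hom ≫ jm j Q) ≫ b.act := by
  let F := Over.pullback j
  have h1 : F.map (lift g x ≫ a.act) ≫ e.iso.hom =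
      lift (F.map g) (F.map x ≫ e.iso.hom) ≫ (b.bc j).act := by
    rw [Functor.map_comp, ← Functor.Monoidal.lift_μ, Category.assoc, Category.assoc]
    have h2 : Functor.LaxMonoidal.μ F G P ≫ F.map a.act ≫ e.iso.hom = (a.bc j).act ≫ e.iso.hom := by
      rw [AlgGrp.Action.bc_act, Category.assoc]
    rw [h2, e.comm, ← Category.assoc, lift_whiskerLeft]
  let N := lift (F.map g) (F.map x ≫ e.iso.hom) ≫ Functor.LaxMonoidal.μ F G Q
  have h3 : (F.map (lift g x ≫ a.act)).left ≫ e.iso.hom.left = (N ≫ F.map b.act).left := by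
    rw [← Over.comp_left, h1, AlgGrp.Action.bc_act]
    simp only [N, Category.assoc]
    rfl
  refine Over.OverMorphism.ext ?_
  show (F.map (lift g x ≫ a.act)).left ≫ e.iso.hom.left ≫ Limits.pullback.fst Q.hom j =
    (lift (jm j Z ≫ g) (Jmap j x ≫ genMap j e.iso.hom ≫ jm j Q)).left ≫ b.act.left
  rw [← Category.assoc, h3, Over.comp_left, Category.assoc, ActBC.pullback_map_left_fst, ← Category.assoc]
  congr 1
  apply Limits.pullback.hom_ext
  · simp only [N, Over.comp_left, Category.assoc]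
    rw [ActBC.μ_left_fst_fst, Over.lift_left, Over.lift_left]
    erw [Limits.pullback.lift_fst_assoc, Limits.pullback.lift_fst]
    erw [Limits.pullback.lift_fst]
    rfl
  · simp only [N, Over.comp_left, Category.assoc]
    rw [ActBC.μ_left_fst_snd, Over.lift_left, Over.lift_left]
    erw [Limits.pullback.lift_snd_assoc, Limits.pullback.lift_snd]
    show ((F.map x).left ≫ e.iso.hom.left) ≫ _ = (F.map x).left ≫ e.iso.hom.left ≫ _
    rw [Category.assoc]
    rfl

variable [Mono j] {G P Q : Over S} [GrpObj G] (a : AlgGrp.Action G P) (b : AlgGrp.Action G Q)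
  [IsIso (lift a.act (snd G P))] [IsIso (lift b.act (snd G Q))]

/-- A generic equivariant morphism extends when points of the group extend on a trivializing cover. -/
theorem exists_extension [Flat G.hom] [Flat P.hom] [IsSeparated Q.hom]
    (φ : J j P ⟶ Q)
    (hφ : ∀ (Z : Over S) (g : Z ⟶ G) (x : Z ⟶ P),
      Jmap j (lift g x ≫ a.act) ≫ φ = lift (jm j Z ≫ g) (Jmap j x ≫ φ) ≫ b.act)
    (T : Over S) [Flat T.hom] [Surjective T.hom] [QuasiCompact T.hom] (p : T ⟶ P) (q : T ⟶ Q)
    (hG : ∀ t : J j T ⟶ G, ∃ u : T ⟶ G, jm j T ≫ u = t) :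
    ∃ Φ : P ⟶ Q, a.act ≫ Φ = (G ◁ Φ) ≫ b.act ∧ jm j P ≫ Φ = φ := by
  obtain ⟨u, hu⟩ := hG (div b (Jmap j p ≫ φ) (jm j T ≫ q))
  let q' := lift u q ≫ b.act
  have hq' : jm j T ≫ q' = Jmap j p ≫ φ := by
    rw [← Category.assoc, comp_lift, hu, div_smul]
  let Φ' : P ⊗ T ⟶ Q := lift (div a (fst P T) (snd P T ≫ p)) (snd P T ≫ q') ≫ b.act
  have hΦ' : jm j (P ⊗ T) ≫ Φ' = Jmap j (fst P T) ≫ φ := by
    rw [← Category.assoc, comp_lift, ← Jmap_jm_assoc, hq', ← Category.assoc (Jmap j _) (Jmap j p), ← Jmap_comp,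
      ← hφ, div_smul]
  haveI : Flat (fst P T).left := inferInstanceAs (Flat (Limits.pullback.fst P.hom T.hom))
  haveI : Surjective (fst P T).left := inferInstanceAs (Surjective (Limits.pullback.fst P.hom T.hom))
  haveI : QuasiCompact (fst P T).left := inferInstanceAs (QuasiCompact (Limits.pullback.fst P.hom T.hom))
  have hc : ∀ {W : Scheme.{u}} (x y : W ⟶ (P ⊗ T).left), x ≫ (fst P T).left = y ≫ (fst P T).left →
      x ≫ Φ'.left = y ≫ Φ'.left := by
    intro W x y hxy
    let π := fst P T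
    let W₂ : Over S := Over.mk (Limits.pullback.fst π.left π.left ≫ (P ⊗ T).hom)
    haveI : Flat (P ⊗ T).hom := inferInstanceAs (Flat (Limits.pullback.fst P.hom T.hom ≫ P.hom))
    haveI : Flat W₂.hom := inferInstanceAs (Flat (Limits.pullback.fst π.left π.left ≫ (P ⊗ T).hom))
    let p₁ : W₂ ⟶ P ⊗ T := Over.homMk (Limits.pullback.fst π.left π.left) rfl
    let p₂ : W₂ ⟶ P ⊗ T := Over.homMk (Limits.pullback.snd π.left π.left) (by
      show _ ≫ (P ⊗ T).hom = Limits.pullback.fst π.left π.left ≫ (P ⊗ T).hom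
      rw [← Over.w π, Limits.pullback.condition_assoc])
    have hp : p₁ ≫ π = p₂ ≫ π := Over.OverMorphism.ext Limits.pullback.condition
    have heq : p₁ ≫ Φ' = p₂ ≫ Φ' := jm_ext j _ _ (by
      rw [← Jmap_jm_assoc j p₁ Φ', ← Jmap_jm_assoc j p₂ Φ', hΦ', ← Category.assoc, ← Category.assoc, ← Jmap_comp, ← Jmap_comp]
      exact congrArg (fun m => Jmap j m ≫ φ) hp)
    have h := congrArg (fun m => Limits.pullback.lift x y hxy ≫ m.left) heq
    simp only [Over.comp_left, p₁, p₂, Over.homMk_left] at h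
    erw [Limits.pullback.lift_fst_assoc, Limits.pullback.lift_snd_assoc] at h
    exact h
  let Φ₀ : P.left ⟶ Q.left := EffectiveEpi.desc (fst P T).left Φ'.left hc
  have hΦ₀ : (fst P T).left ≫ Φ₀ = Φ'.left := EffectiveEpi.fac _ _ hc
  let Φ : P ⟶ Q := Over.homMk Φ₀ (by
    rw [← cancel_epi (fst P T).left, ← Category.assoc, hΦ₀, Over.w Φ', Over.w (fst P T)])
  have hΦ : fst P T ≫ Φ = Φ' := Over.OverMorphism.ext hΦ₀
  have hgen : jm j P ≫ Φ = φ := by
    have hpb : IsPullback (Limits.pullback.fst (P ⊗ T).hom j) (pbMap (fst P T)) (fst P T).left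
        (Limits.pullback.fst P.hom j) := by
      refine IsPullback.of_bot ?_ (Limits.pullback.lift_fst _ _ _).symm (IsPullback.of_hasPullback P.hom j)
      have e : pbMap (fst P T) ≫ Limits.pullback.snd P.hom j = Limits.pullback.snd (P ⊗ T).hom j :=
        (Limits.pullback.lift_snd _ _ _).trans (Category.comp_id _)
      rw [e, Over.w (fst P T)]
      exact IsPullback.of_hasPullback (P ⊗ T).hom j
    haveI : Flat (Jmap j (fst P T)).left := MorphismProperty.of_isPullback (P := @Flat) hpb ‹_›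
    haveI : Surjective (Jmap j (fst P T)).left := MorphismProperty.of_isPullback (P := @Surjective) hpb ‹_›
    haveI : QuasiCompact (Jmap j (fst P T)).left := MorphismProperty.of_isPullback (P := @QuasiCompact) hpb ‹_›
    haveI : Epi (Jmap j (fst P T)) := Over.epi_of_epi_left _
    rw [← cancel_epi (Jmap j (fst P T)), Jmap_jm_assoc, hΦ, hΦ']
  refine ⟨Φ, ?_, hgen⟩
  haveI : Flat (G ⊗ P).hom := inferInstanceAs (Flat (Limits.pullback.fst G.hom P.hom ≫ G.hom))
  refine jm_ext j _ _ ?_
  have h := hφ (G ⊗ P) (fst G P) (snd G P)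
  rw [show lift (fst G P) (snd G P) = 𝟙 _ from CartesianMonoidalCategory.hom_ext _ _ (by simp) (by simp),
    Category.id_comp] at h
  rw [← Jmap_jm_assoc, hgen, h, ← Category.assoc]
  congr 1
  apply CartesianMonoidalCategory.hom_ext
  · simp
  · rw [lift_snd, Category.assoc, whiskerLeft_snd, ← Jmap_jm_assoc, hgen]

end Groth.Agent.H18DedTors
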