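import Mathlib
import Groth.Prelude.Def_Neron
import Groth.Agent.H28Neron.Torsor
import Groth.Agent.H28Neron.Ext
import Groth.Agent.S17856

/-!
# A trivializing cover by a product of valuation rings over a Dedekind domain
-/

set_option autoImplicit false
set_option linter.style.haveILetI false
set_option backward.isDefEq.respectTransparency false

universe u

open CategoryTheory CategoryTheory.Limits AlgebraicGeometry TensorProduct

namespace Groth.Agent.H18DedTors

/-- A family of maps separating `W` separates its generic fibre. -/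
theorem injective_pi_lift {R K W : Type u} [CommRing R] [CommRing K] [CommRing W] [Algebra R K] [Algebra R W]
    [IsFractionRing R K] {I : Type u} {L : I → Type u} [∀ i, CommRing (L i)] [∀ i, Algebra R (L i)]
    (α : ∀ i, W →ₐ[R] L i) (β : ∀ i, K →ₐ[R] L i) (hα : ∀ w, (∀ i, α i w = 0) → w = 0) :
    Function.Injective (Pi.ringHom fun i =>
      (Algebra.TensorProduct.lift (α i) (β i) fun _ _ => mul_comm _ _).toRingHom) := by
  rw [injective_iff_map_eq_zero]
  intro z hz
  have hden : ∀ x : W ⊗[R] K, ∃ (w : W) (s : nonZeroDivisors R), (s : R) • x = w ⊗ₜ[R] (1 : K) := by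
    intro x
    induction x using TensorProduct.induction_on with
    | zero => exact ⟨0, 1, by simp⟩
    | tmul w k =>
      obtain ⟨⟨a, s⟩, hk⟩ := IsLocalization.surj (nonZeroDivisors R) k
      refine ⟨a • w, s, ?_⟩
      rw [← TensorProduct.tmul_smul, TensorProduct.smul_tmul, Algebra.smul_def, mul_comm, hk,
        ← Algebra.algebraMap_eq_smul_one]
    | add x y hx hy =>
      obtain ⟨a, s, ha⟩ := hx
      obtain ⟨b, t, hb⟩ := hy
      refine ⟨(t : R) • a + (s : R) • b, s * t, ?_⟩
      rw [Submonoid.coe_mul, smul_add, TensorProduct.add_tmul, ← TensorProduct.smul_tmul', ← TensorProduct.smul_tmul',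
        ← ha, ← hb, mul_smul, mul_smul, smul_comm (t : R) (s : R) x]
  obtain ⟨w, s, hws⟩ := hden z
  have h0 : w = 0 := hα w fun i => by
    have h1 := congrArg (Algebra.TensorProduct.lift (α i) (β i) fun _ _ => mul_comm _ _) hws
    have h2 : Algebra.TensorProduct.lift (α i) (β i) (fun _ _ => mul_comm _ _) z = 0 := congrFun hz i
    rw [map_smul, h2, smul_zero, Algebra.TensorProduct.lift_tmul, map_one, mul_one] at h1
    exact h1.symm
  rw [h0, TensorProduct.zero_tmul] at hws
  have hu : IsUnit (algebraMap R (W ⊗[R] K) s) := by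
    rw [← (Algebra.TensorProduct.includeRight : K →ₐ[R] W ⊗[R] K).commutes]
    exact (IsLocalization.map_units K s).map _
  rw [Algebra.smul_def] at hws
  exact hu.mul_right_eq_zero.1 hws

/-- A flat surjective scheme over a local domain has a point in a valuation ring dominating it. -/
theorem exists_valuation_point {A : Type u} [CommRing A] [IsDomain A] [IsLocalRing A] {Y : Scheme.{u}}
    (f : Y ⟶ Spec (CommRingCat.of A)) [Flat f] [Surjective f] :
    ∃ (V : Type u) (_ : CommRing V) (_ : IsDomain V) (_ : ValuationRing V) (ψ : A →+* V),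
      Function.Injective ψ ∧ IsLocalHom ψ ∧
      ∃ s : Spec (CommRingCat.of V) ⟶ Y, s ≫ f = Spec.map (CommRingCat.ofHom ψ) := by
  obtain ⟨y, hy⟩ := f.surjective (IsLocalRing.closedPoint A)
  obtain ⟨y', hy', hy'f⟩ := Flat.generalizingMap f
    (IsLocalRing.specializes_closedPoint (⟨⊥, Ideal.isPrime_bot⟩ : Spec (CommRingCat.of A))
      |>.trans (Specializes.of_eq hy.symm))
  let σ : Y.presheaf.stalk y ⟶ Y.residueField y' := Y.presheaf.stalkSpecializes hy' ≫ Y.residue y'
  obtain ⟨V, hV, hloc⟩ := IsLocalRing.exists_factor_valuationRing σ.hom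
  let σV : Y.presheaf.stalk y ⟶ CommRingCat.of V := CommRingCat.ofHom (σ.hom.codRestrict _ hV)
  let s := Spec.map σV ≫ Y.fromSpecStalk y
  let ι := Spec.map (CommRingCat.ofHom (algebraMap V (Y.residueField y')))
  have hs : s (IsLocalRing.closedPoint V) = y := by
    show Y.fromSpecStalk y (Spec.map σV (IsLocalRing.closedPoint V)) = y
    rw [show Spec.map σV (IsLocalRing.closedPoint V) = IsLocalRing.closedPoint (Y.presheaf.stalk y) from
      IsLocalRing.comap_closedPoint (S := V) (σ.hom.codRestrict V.toSubring hV), Scheme.fromSpecStalk_closedPoint]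
  have hgen : ι ≫ s = Y.fromSpecResidueField y' := by
    rw [Scheme.fromSpecResidueField, ← Scheme.SpecMap_stalkSpecializes_fromSpecStalk hy']
    simp_rw [ι, s, ← Spec.map_comp_assoc]
    rfl
  obtain ⟨ψ, hψ⟩ := Spec.map_surjective (s ≫ f)
  refine ⟨V, inferInstance, inferInstance, inferInstance, ψ.hom, ?_, ?_, s, hψ.symm⟩
  · have h : (Spec.map ψ) (ι (IsLocalRing.closedPoint (Y.residueField y'))) = ⟨⊥, Ideal.isPrime_bot⟩ := by
      rw [hψ, ← Scheme.Hom.comp_apply, ← Category.assoc, hgen, Scheme.Hom.comp_apply,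
        ]
      erw [Scheme.fromSpecResidueField_apply]
      exact hy'f
    have h' : (ι (IsLocalRing.closedPoint (Y.residueField y'))).asIdeal.comap ψ.hom = ⊥ :=
      congrArg PrimeSpectrum.asIdeal h
    rw [RingHom.injective_iff_ker_eq_bot, ← le_bot_iff, ← h']
    intro x hx
    rw [Ideal.mem_comap, RingHom.mem_ker.1 hx]
    exact zero_mem _
  · have h : (Spec.map ψ) (IsLocalRing.closedPoint V) = IsLocalRing.closedPoint A := by
      rw [hψ, Scheme.Hom.comp_apply, hs, hy]
    have h' : (IsLocalRing.maximalIdeal V).comap ψ.hom = IsLocalRing.maximalIdeal A := congrArg PrimeSpectrum.asIdeal h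
    exact ((IsLocalRing.local_hom_TFAE ψ.hom).out 4 0 rfl rfl).1 h'

variable {R : Type u} [CommRing R] [IsDedekindDomain R]

/-- Trivializing data for two schemes over a Dedekind domain. -/
structure Cover {X Y : Scheme.{u}} (f : X ⟶ Spec (CommRingCat.of R)) (g : Y ⟶ Spec (CommRingCat.of R)) where
  V : MaximalSpectrum R → Type u
  [ring : ∀ m, CommRing (V m)]
  [dom : ∀ m, IsDomain (V m)]
  [val : ∀ m, ValuationRing (V m)]
  ψ : ∀ m, R →+* V m
  inj : ∀ m, Function.Injective (ψ m)
  le : ∀ m : MaximalSpectrum R, m.asIdeal.map (ψ m) ≠ ⊤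
  p : ∀ m, Spec (CommRingCat.of (V m)) ⟶ X
  q : ∀ m, Spec (CommRingCat.of (V m)) ⟶ Y
  hp : ∀ m, p m ≫ f = Spec.map (CommRingCat.ofHom (ψ m))
  hq : ∀ m, q m ≫ g = Spec.map (CommRingCat.ofHom (ψ m))

attribute [instance] Cover.ring Cover.dom Cover.val

theorem exists_cover {X Y : Scheme.{u}} (f : X ⟶ Spec (CommRingCat.of R)) (g : Y ⟶ Spec (CommRingCat.of R))
    [Flat f] [Surjective f] [Flat g] [Surjective g] : Nonempty (Cover f g) := by
  have h : ∀ m : MaximalSpectrum R, ∃ (V : Type u) (_ : CommRing V) (_ : IsDomain V) (_ : ValuationRing V)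
      (ψ : R →+* V) (p : Spec (CommRingCat.of V) ⟶ X) (q : Spec (CommRingCat.of V) ⟶ Y),
      Function.Injective ψ ∧ m.asIdeal.map ψ ≠ ⊤ ∧ p ≫ f = Spec.map (CommRingCat.ofHom ψ) ∧
        q ≫ g = Spec.map (CommRingCat.ofHom ψ) := by
    intro m
    haveI := m.isMaximal
    let A := Localization.AtPrime m.asIdeal
    haveI : IsDomain A := IsLocalization.isDomain_localization m.asIdeal.primeCompl_le_nonZeroDivisors
    let z := Spec.map (CommRingCat.ofHom (algebraMap R A))
    obtain ⟨V₁, _, _, _, ψ₁, hi₁, hl₁, s₁, hs₁⟩ := exists_valuation_point (pullback.snd f z)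
    let z₁ := Spec.map (CommRingCat.ofHom (ψ₁.comp (algebraMap R A)))
    obtain ⟨V, _, _, _, ψ, hi, hl, s, hs⟩ := exists_valuation_point (pullback.snd g z₁)
    haveI := hl₁
    haveI := hl
    haveI : IsLocalHom (ψ.comp ψ₁) := RingHom.isLocalHom_comp ψ ψ₁
    refine ⟨V, inferInstance, inferInstance, inferInstance, ψ.comp (ψ₁.comp (algebraMap R A)),
      Spec.map (CommRingCat.ofHom ψ) ≫ s₁ ≫ pullback.fst f z, s ≫ pullback.fst g z₁, ?_, ?_, ?_, ?_⟩
    · exact hi.comp (hi₁.comp (IsLocalization.injective A m.asIdeal.primeCompl_le_nonZeroDivisors))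
    · refine ne_top_of_le_ne_top (IsLocalRing.maximalIdeal.isMaximal V).ne_top ?_
      rw [Ideal.map_le_iff_le_comap, ← RingHom.comp_assoc, ← Ideal.comap_comap,
        ((IsLocalRing.local_hom_TFAE (ψ.comp ψ₁)).out 0 4 rfl rfl).1 ‹_›]
      exact (IsLocalization.AtPrime.comap_maximalIdeal A m.asIdeal).ge
    · rw [Category.assoc, Category.assoc, pullback.condition, reassoc_of% hs₁, ← Spec.map_comp, ← Spec.map_comp]
      rfl
    · rw [Category.assoc, pullback.condition, reassoc_of% hs, ← Spec.map_comp]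
      rfl
  choose V i₁ i₂ i₃ ψ p q h₁ h₂ h₃ h₄ using h
  exact ⟨⟨V, ψ, h₁, h₂, p, q, h₃, h₄⟩⟩

variable {X Y : Scheme.{u}} {f : X ⟶ Spec (CommRingCat.of R)} {g : Y ⟶ Spec (CommRingCat.of R)} (C : Cover f g)

/-- The product of the valuation rings. -/
abbrev Cover.W : Type u := ∀ m, C.V m

noncomputable instance : Algebra R C.W := (Pi.ringHom C.ψ).toAlgebra

theorem Cover.algebraMap_apply (r : R) (m : MaximalSpectrum R) : algebraMap R C.W r m = C.ψ m r := rfl

/-- The cover. -/
noncomputable abbrev Cover.π : Spec (CommRingCat.of C.W) ⟶ Spec (CommRingCat.of R) :=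
  Spec.map (CommRingCat.ofHom (algebraMap R C.W))

/-- The component at `m`. -/
noncomputable abbrev Cover.ev (m : MaximalSpectrum R) : Spec (CommRingCat.of (C.V m)) ⟶ Spec (CommRingCat.of C.W) :=
  Spec.map (CommRingCat.ofHom (Pi.evalRingHom (fun m => C.V m) m))

theorem Cover.ev_π (m : MaximalSpectrum R) : C.ev m ≫ C.π = Spec.map (CommRingCat.ofHom (C.ψ m)) := by
  rw [← Spec.map_comp]; rfl

instance : Module.IsTorsionFree R C.W :=
  Module.isTorsionFree_iff_smul_eq_zero.2 fun r w h => by
    by_cases hr : r = 0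
    · exact Or.inl hr
    · refine Or.inr (funext fun m => ?_)
      have := congrFun h m
      rw [Algebra.smul_def] at this
      exact (mul_eq_zero.1 this).resolve_left fun h0 => hr (C.inj m (h0.trans (map_zero _).symm))

theorem Cover.faithfullyFlat : Module.FaithfullyFlat R C.W := by
  haveI : Module.Flat R C.W := inferInstance
  refine ⟨fun {m} hm h => C.le ⟨m, hm⟩ ?_⟩
  rw [Ideal.smul_top_eq_map, Submodule.restrictScalars_eq_top_iff] at h
  have := congrArg (Ideal.map (Pi.evalRingHom (fun m => C.V m) ⟨m, hm⟩)) h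
  rwa [Ideal.map_map, Ideal.map_top] at this

theorem Cover.flat_surjective : Flat C.π ∧ Surjective C.π := by
  rw [flat_and_surjective_SpecMap_iff]
  exact RingHom.faithfullyFlat_algebraMap_iff.2 C.faithfullyFlat

/-- Points glue to the product. -/
theorem Cover.exists_point {Z : Scheme.{u}} (h : Z ⟶ Spec (CommRingCat.of R)) [QuasiCompact h] [QuasiSeparated h]
    (p : ∀ m, Spec (CommRingCat.of (C.V m)) ⟶ Z) (hp : ∀ m, p m ≫ h = Spec.map (CommRingCat.ofHom (C.ψ m))) :
    ∃ P : Spec (CommRingCat.of C.W) ⟶ Z, P ≫ h = C.π ∧ ∀ m, C.ev m ≫ P = p m := by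
  haveI : CompactSpace Z := QuasiCompact.compactSpace_of_compactSpace h
  haveI : QuasiSeparatedSpace Z := quasiSeparatedSpace_of_quasiSeparated h
  obtain ⟨P, hP⟩ := (S17856.result Z fun m => CommRingCat.of (C.V m)).2 p
  refine ⟨P, (S17856.result (Spec (CommRingCat.of R)) fun m => CommRingCat.of (C.V m)).1 (funext fun m => ?_),
    fun m => congrFun hP m⟩
  show C.ev m ≫ P ≫ h = C.ev m ≫ C.π
  rw [← Category.assoc, show C.ev m ≫ P = p m from congrFun hP m, hp, C.ev_π]

/-- Generic points of a proper scheme extend over the cover. -/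
theorem Cover.exists_extension_aux {K : Type u} [Field K] [Algebra R K] [IsFractionRing R K]
    (L : MaximalSpectrum R → Type u) [∀ m, Field (L m)] [∀ m, Algebra (C.V m) (L m)]
    [∀ m, IsFractionRing (C.V m) (L m)] {Z : Scheme.{u}} (h : Z ⟶ Spec (CommRingCat.of R)) [IsProper h]
    (t : pullback C.π (Spec.map (CommRingCat.ofHom (algebraMap R K))) ⟶ Z) (ht : t ≫ h = pullback.fst _ _ ≫ C.π) :
    ∃ u : Spec (CommRingCat.of C.W) ⟶ Z, u ≫ h = C.π ∧ pullback.fst C.π (Spec.map (CommRingCat.ofHom (algebraMap R K))) ≫ u = t := by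
  haveI : CompactSpace Z := QuasiCompact.compactSpace_of_compactSpace h
  haveI : QuasiSeparatedSpace Z := quasiSeparatedSpace_of_quasiSeparated h
  have hinj : ∀ m, Function.Injective ((algebraMap (C.V m) (L m)).comp (C.ψ m)) := fun m =>
    (IsFractionRing.injective (C.V m) (L m)).comp (C.inj m)
  let κ : ∀ m, K →+* L m := fun m => IsFractionRing.lift (hinj m)
  let a : ∀ m, Spec (CommRingCat.of (L m)) ⟶ Spec (CommRingCat.of C.W) := fun m =>
    Spec.map (CommRingCat.ofHom (algebraMap (C.V m) (L m))) ≫ C.ev m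
  have ha : ∀ m, a m ≫ C.π = Spec.map (CommRingCat.ofHom (κ m)) ≫ Spec.map (CommRingCat.ofHom (algebraMap R K)) := fun m => by
    show (Spec.map _ ≫ C.ev m) ≫ C.π = Spec.map _ ≫ Spec.map _
    rw [Category.assoc, C.ev_π, ← Spec.map_comp, ← Spec.map_comp, ← CommRingCat.ofHom_comp, ← CommRingCat.ofHom_comp]
    exact congrArg (fun x => Spec.map (CommRingCat.ofHom x))
      (RingHom.ext fun r => (IsFractionRing.lift_algebraMap (hinj m) r).symm)
  let ι : ∀ m, Spec (CommRingCat.of (L m)) ⟶ pullback C.π (Spec.map (CommRingCat.ofHom (algebraMap R K))) := fun m =>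
    pullback.lift (a m) (Spec.map (CommRingCat.ofHom (κ m))) (ha m)
  have hv : ValuativeCriterion h := by
    have h' : IsProper h := ‹IsProper h›
    rw [IsProper.eq_valuativeCriterion] at h'
    exact h'.1.1.1
  have hl : ∀ m, ∃ l : Spec (CommRingCat.of (C.V m)) ⟶ Z,
      Spec.map (CommRingCat.ofHom (algebraMap (C.V m) (L m))) ≫ l = ι m ≫ t ∧
        l ≫ h = Spec.map (CommRingCat.ofHom (C.ψ m)) := fun m => by
    have w : CommSq (ι m ≫ t) (Spec.map (CommRingCat.ofHom (algebraMap (C.V m) (L m)))) h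
        (Spec.map (CommRingCat.ofHom (C.ψ m))) := ⟨by
      rw [Category.assoc, ht, pullback.lift_fst_assoc]
      simp only [a, Category.assoc, C.ev_π]⟩
    obtain ⟨l, h1, h2⟩ := (hv.existence ⟨C.V m, L m, ι m ≫ t, Spec.map (CommRingCat.ofHom (C.ψ m)), w⟩).exists_lift
    exact ⟨l, h1, h2⟩
  choose l hl₁ hl₂ using hl
  obtain ⟨P, hP₁, hP₂⟩ := C.exists_point h l hl₂
  refine ⟨P, hP₁, ?_⟩
  let e := pullbackSpecIso R C.W K
  letI : ∀ m, Algebra R (L m) := fun m => ((algebraMap (C.V m) (L m)).comp (C.ψ m)).toAlgebra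
  let α : ∀ m, C.W →ₐ[R] L m := fun m =>
    { (algebraMap (C.V m) (L m)).comp (Pi.evalRingHom (fun m => C.V m) m) with commutes' := fun _ => rfl }
  let β : ∀ m, K →ₐ[R] L m := fun m =>
    { κ m with commutes' := fun r => IsFractionRing.lift_algebraMap (hinj m) r }
  let γ : ∀ m, C.W ⊗[R] K →+* L m := fun m =>
    (Algebra.TensorProduct.lift (α m) (β m) fun _ _ => mul_comm _ _).toRingHom
  let γp : C.W ⊗[R] K →+* (∀ m, L m) := Pi.ringHom γ
  have hγ : Function.Injective γp := injective_pi_lift α β fun w hw => funext fun m =>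
    IsFractionRing.injective (C.V m) (L m) ((hw m).trans (map_zero _).symm)
  haveI : _root_.IsReduced (C.W ⊗[R] K) := isReduced_of_injective γp hγ
  haveI : IsDominant (Spec.map (CommRingCat.ofHom γp)) :=
    ⟨PrimeSpectrum.denseRange_comap_iff_ker_le_nilRadical γp |>.2 (((RingHom.injective_iff_ker_eq_bot _).1 hγ).trans_le bot_le)⟩
  haveI : IsSchemeTheoreticallyDominant (Spec.map (CommRingCat.ofHom γp)) := .of_isDominant _
  rw [← cancel_epi e.inv]
  refine H28Neron.ext_of_schDominant _ _ h (by simp only [Category.assoc, hP₁, ht])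
    (Spec.map (CommRingCat.ofHom γp)) ((S17856.result Z fun m => CommRingCat.of (L m)).1 (funext fun m => ?_))
  have hι : Spec.map (CommRingCat.ofHom (γ m)) ≫ e.inv = ι m := by
    apply pullback.hom_ext
    · rw [Category.assoc, pullbackSpecIso_inv_fst, pullback.lift_fst, ← Spec.map_comp]
      simp only [a, Cover.ev, ← Spec.map_comp, ← CommRingCat.ofHom_comp]
      congr 2
      exact RingHom.ext fun w => by simp [γ, α, β]
    · rw [Category.assoc, pullbackSpecIso_inv_snd, pullback.lift_snd, ← Spec.map_comp, ← CommRingCat.ofHom_comp]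
      congr 2
      exact RingHom.ext fun w => by simp [γ, α, β]
  have hm : Spec.map (CommRingCat.ofHom (Pi.evalRingHom L m)) ≫ Spec.map (CommRingCat.ofHom γp) =
      Spec.map (CommRingCat.ofHom (γ m)) := by rw [← Spec.map_comp]; rfl
  show Spec.map (CommRingCat.ofHom (Pi.evalRingHom L m)) ≫ _ = Spec.map (CommRingCat.ofHom (Pi.evalRingHom L m)) ≫ _
  simp only [reassoc_of% hm, reassoc_of% hι]
  rw [pullback.lift_fst_assoc, ← hl₁ m, ← hP₂ m]
  simp only [a, Category.assoc]

/-- Generic points of a proper scheme extend over the cover. -/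
theorem Cover.exists_extension {Z : Scheme.{u}} (h : Z ⟶ Spec (CommRingCat.of R)) [IsProper h]
    (t : pullback C.π (Neron.genPt R) ⟶ Z) (ht : t ≫ h = pullback.fst _ _ ≫ C.π) :
    ∃ u : Spec (CommRingCat.of C.W) ⟶ Z, u ≫ h = C.π ∧ pullback.fst C.π (Neron.genPt R) ≫ u = t :=
  C.exists_extension_aux (K := FractionRing R) (fun m => FractionRing (C.V m)) h t ht

end Groth.Agent.H18DedTors
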