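import Mathlib
import Groth.Agent.H18DedTors.Extend
import Groth.Agent.H18DedTors.Points
import Groth.Agent.H28Neron.TorsorDescent
import Groth.Agent.H18Torsor.Basic

/-!
# Torsors under proper flat groups over Dedekind domains are determined by the generic fibre
-/

set_option autoImplicit false
set_option linter.style.haveILetI false
set_option backward.isDefEq.respectTransparency false

universe u

open CategoryTheory MonoidalCategory CartesianMonoidalCategory MonObj AlgebraicGeometry
open Groth.Agent.H28Neron Groth.Agent.H28Neron.Torsor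

namespace Groth.Agent.H18DedTors

/-- A locally trivial pseudo-torsor under a flat proper group is flat, separated, quasi-compact, surjective. -/
theorem properties_of_proper {S : Scheme.{u}} {G N : Over S} [GrpObj G] [IsAffine S] [Flat G.hom] [IsProper G.hom]
    (a : AlgGrp.Action G N) [IsIso (lift a.act (snd G N))]
    (h : NonAbH1.IsLocallyTrivialFor Scheme.fppfPrecoverage N) :
    Flat N.hom ∧ IsSeparated N.hom ∧ QuasiCompact N.hom ∧ Surjective N.hom := by
  obtain ⟨T, g, hg₁, hg₂, hg₃, s, hs⟩ := exists_section_cover N h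
  have hsur : Surjective N.hom := ⟨fun x => by
    obtain ⟨t, rfl⟩ := g.surjective x
    exact ⟨s t, by rw [← Scheme.Hom.comp_apply, hs]⟩⟩
  let e := trivialize a (Over.mk g) (Over.homMk s hs)
  let ψ : Limits.pullback G.hom g ⟶ Limits.pullback N.hom g := e.hom.left
  haveI : IsIso ψ := ((Over.forget S).mapIso e).isIso_hom
  have hψ : ψ ≫ Limits.pullback.snd N.hom g = Limits.pullback.snd G.hom g := by
    have : e.hom ≫ snd N (Over.mk g) = snd G (Over.mk g) := lift_snd _ _
    exact congrArg (fun m => m.left) this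
  have tr : ∀ (P : MorphismProperty Scheme.{u}) [P.RespectsIso] [P.IsStableUnderBaseChange],
      P G.hom → P (Limits.pullback.snd N.hom g) := fun P _ _ hP => by
    rw [← P.cancel_left_of_respectsIso ψ, hψ]
    exact MorphismProperty.pullback_snd _ _ hP
  have hQ : (@Surjective ⊓ @Flat ⊓ @QuasiCompact : MorphismProperty Scheme.{u}) g := ⟨⟨hg₂, hg₁⟩, hg₃⟩
  have hsurj : Surjective (Limits.pullback.fst N.hom g) := MorphismProperty.pullback_fst _ _ hg₂
  have hflat : Flat N.hom :=
    MorphismProperty.of_pullback_snd_of_descendsAlong (P := @Flat) (Q := Groth.Agent.H18Descent.fpqc) hQ (tr @Flat ‹_›)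
  have hqc : QuasiCompact N.hom := by
    have : QuasiCompact (Limits.pullback.snd N.hom g) := tr @QuasiCompact inferInstance
    have : CompactSpace T := QuasiCompact.compactSpace_of_compactSpace g
    have : CompactSpace ↥(Limits.pullback N.hom g) :=
      QuasiCompact.compactSpace_of_compactSpace (Limits.pullback.snd N.hom g)
    have : CompactSpace N.left := ⟨by
      rw [← Set.range_eq_univ.mpr (Limits.pullback.fst N.hom g).surjective]
      exact isCompact_range (Limits.pullback.fst N.hom g).continuous⟩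
    exact (quasiCompact_iff_compactSpace N.hom).mpr ‹_›
  have hsep : IsSeparated N.hom := by
    have h1 : MorphismProperty.diagonal @UniversallyClosed (Limits.pullback.snd N.hom g) := by
      have : IsSeparated (Limits.pullback.snd N.hom g) := tr @IsSeparated inferInstance
      exact inferInstanceAs (UniversallyClosed (Limits.pullback.diagonal (Limits.pullback.snd N.hom g)))
    have h2 : UniversallyClosed (Limits.pullback.diagonal N.hom) :=
      MorphismProperty.of_pullback_snd_of_descendsAlong (P := MorphismProperty.diagonal @UniversallyClosed) hQ h1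
    exact ⟨.of_isPreimmersion _ (Limits.pullback.diagonal N.hom).isClosedMap.isClosed_range⟩
  exact ⟨hflat, hsep, hqc, hsur⟩

/-- Equivariant isomorphisms of actions invert. -/
def symmIso {S : Scheme.{u}} {G X Y : Over S} [GrpObj G] {a : AlgGrp.Action G X} {b : AlgGrp.Action G Y}
    (e : NonAbH1.EquivIso a b) : NonAbH1.EquivIso b a where
  iso := e.iso.symm
  comm := by
    show b.act ≫ e.iso.inv = _
    rw [Iso.comp_inv_eq, Category.assoc, e.comm, Iso.symm_hom, whiskerLeft_inv_hom_assoc]

theorem equiv_equivalence {S : Scheme.{u}} (G : Over S) [GrpObj G] (K : Precoverage Scheme.{u}) :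
    Equivalence fun P Q : NonAbH1.TorsorSch G K => Nonempty (NonAbH1.EquivIso P.act Q.act) where
  refl P := ⟨⟨Iso.refl _, by simp⟩⟩
  symm := fun ⟨e⟩ => ⟨symmIso e⟩
  trans := fun ⟨e⟩ ⟨f⟩ => ⟨⟨e.iso ≪≫ f.iso, by
    rw [Iso.trans_hom, reassoc_of% e.comm, f.comm, MonoidalCategory.whiskerLeft_comp, Category.assoc]⟩⟩

theorem genMap_inv {S S₀ : Scheme.{u}} (j : S₀ ⟶ S) {P Q : Over S}
    (e : (Over.pullback j).obj P ≅ (Over.pullback j).obj Q) : genMap j e.hom ≫ genMap j e.inv = 𝟙 (J j P) := by
  refine Over.OverMorphism.ext ?_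
  show e.hom.left ≫ e.inv.left = 𝟙 _
  rw [← Over.comp_left, e.hom_inv_id]
  rfl

variable (R : Type u) [CommRing R] [IsDedekindDomain R]

/-- An equivariant isomorphism of generic fibres comes from one of the torsors. -/
theorem nonempty_equivIso (G : Over (Spec (CommRingCat.of R))) [GrpObj G] [IsProper G.hom] [Flat G.hom]
    (P Q : NonAbH1.TorsorSch G Scheme.fppfPrecoverage)
    (e : NonAbH1.EquivIso (P.act.bc (Neron.genPt R)) (Q.act.bc (Neron.genPt R))) :
    Nonempty (NonAbH1.EquivIso P.act Q.act) := by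
  let j := Neron.genPt R
  haveI : Mono j :=
    inferInstanceAs (Mono (Scheme.Spec.map (CommRingCat.ofHom (algebraMap R (FractionRing R))).op))
  haveI : IsIso (lift P.act.act (snd G P.X)) := P.isTorsor.1
  haveI : IsIso (lift Q.act.act (snd G Q.X)) := Q.isTorsor.1
  obtain ⟨_, _, _, _⟩ := properties_of_proper P.act P.isTorsor.2
  obtain ⟨_, _, _, _⟩ := properties_of_proper Q.act Q.isTorsor.2
  obtain ⟨C⟩ := exists_cover P.X.hom Q.X.hom
  obtain ⟨_, _⟩ := C.flat_surjective
  let T : Over (Spec (CommRingCat.of R)) := Over.mk C.π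
  haveI : Flat T.hom := ‹Flat C.π›
  haveI : Surjective T.hom := ‹Surjective C.π›
  haveI : QuasiCompact T.hom := inferInstanceAs (QuasiCompact C.π)
  obtain ⟨p, hp, -⟩ := C.exists_point P.X.hom C.p C.hp
  obtain ⟨q, hq, -⟩ := C.exists_point Q.X.hom C.q C.hq
  have hG : ∀ t : J j T ⟶ G, ∃ u : T ⟶ G, jm j T ≫ u = t := fun t => by
    obtain ⟨u, hu, hu'⟩ := C.exists_extension G.hom t.left (Over.w t)
    exact ⟨Over.homMk u hu, Over.OverMorphism.ext hu'⟩
  obtain ⟨Φ, hΦ, hΦj⟩ := exists_extension j P.act Q.act (genMap j e.iso.hom ≫ jm j Q.X)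
    (genMap_equivariant j _ _ e) T (Over.homMk p hp) (Over.homMk q hq) hG
  obtain ⟨Ψ, -, hΨj⟩ := exists_extension j Q.act P.act (genMap j e.iso.inv ≫ jm j P.X)
    (genMap_equivariant j _ _ (symmIso e)) T (Over.homMk q hq) (Over.homMk p hp) hG
  have key : ∀ {A B : Over (Spec (CommRingCat.of R))} [Flat A.hom] [IsSeparated A.hom] (Φ : A ⟶ B) (Ψ : B ⟶ A)
      (k : J j A ⟶ J j B) (k' : J j B ⟶ J j A), jm j A ≫ Φ = k ≫ jm j B → jm j B ≫ Ψ = k' ≫ jm j A →
      k ≫ k' = 𝟙 _ → Φ ≫ Ψ = 𝟙 A := fun {A B} _ _ Φ Ψ k k' h₁ h₂ h => jm_ext j _ _ (by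
    rw [reassoc_of% h₁, h₂, reassoc_of% h, Category.comp_id])
  exact ⟨⟨⟨Φ, Ψ, key Φ Ψ _ _ hΦj hΨj (genMap_inv j e.iso), key Ψ Φ _ _ hΨj hΦj (genMap_inv j e.iso.symm)⟩, hΦ⟩⟩

theorem bcMap_injective (G : Over (Spec (CommRingCat.of R))) [GrpObj G] [IsProper G.hom] [Flat G.hom] :
    Function.Injective (NonAbH1.H1Sch.bcMap (Neron.genPt R) G Scheme.fppfPrecoverage) := by
  intro c d h
  induction c using Quot.ind with | mk P =>
  induction d using Quot.ind with | mk Q =>
  obtain ⟨e⟩ := (equiv_equivalence _ _).eqvGen_iff.1 (Quot.eqvGen_exact h)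
  exact Quot.sound (nonempty_equivIso R G P Q e)

end Groth.Agent.H18DedTors
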